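import Mathlib

set_option autoImplicit false
set_option maxRecDepth 100000

namespace Cfsg.Agent.Lib.Helper11.WD4a

noncomputable def fc0_0 (i : ℕ) : ℕ := (nat_lit 0x70000e20000070000e20000070000e30000070000e30000070000e10000070000e10000060000c30000060000c30000060000c10000060000c10000050000a40000050000a40000050000810000040000a10000040000820000040000820000040000840000040000840000030000620000030000620000030000640000030000640000020000440000020000440000010000230000010000230000010000210000010000210000000000030000000000030000000000020000000000020000000000010000000000010000060000e40000070000c40000050000c20000060000a20000030000a3000005000063000002000083000004000043000002000061000003000041000001000042000002000022000000000024000001000004)
noncomputable def sc0_0 (i : ℕ) : ℕ := (nat_lit 0x3000000030000000300000003000000030000000300000003000000030000000300000003000000030000000300000003000000030000000300000003000000030000000300000003000000030000000300000003000000030000000300000003000000030000000300000003000000030000000300000003000000030000000300000003000000030000000300000003000000030000000300000003000000030000000300000003000000030000000300000003000000030000000300000003000000030000000300000003000000030000000300000003000000030000000300000003000000030000000300000003000000030000000300000003000000030000000300000003000000030000000300000003000000030000000300000003000000030000000300000003000000030000000300000003000000030000000300000003000000030000000300000003000000030000000300000003000000030000000300000003000000030000000300000003000000030000000300000003000000030000000300000003000000030000000300000003000000030000210000230000090000220000200005000b00001f00000300001e0003000100001d00000300001c0003000000001d00001f00000b00001e00001c0005000a00001b00000200000500000300001a0005000900001b00000900001a0003000200001900001d00001a0003000800001900001d00000900001c000018000500070000170000050000160003000200001700001900000700001800001600050006000015000001000014000300050000150000170000070000160000140005000400001500000300001400030001000013000005000012000300000000fffe0000fffe0000fffe0000ffff0000ffff0000ffff0000ffff0000ffff0000ffff0000ffff)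
noncomputable def nc0_0 (i : ℕ) : ℕ := (nat_lit 0x7000006000005000004000003000002000001000000)
noncomputable def cc0_0 (i : ℕ) : ℕ := (nat_lit 0x600000c00000700002c00000700002e00000700002a00000700000d00000600002800000500000a00000600002600000500002400000300000800000600000b00000400002300000400001e00000200000600000400002000000500002200000300001a00000500000900000300001c00000200000400000200001800000400000700000100000200000300000500000000000000000100001600000200000300000100001400000100000100000000001200000000001000000000000e)

end Cfsg.Agent.Lib.Helper11.WD4a
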